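import Mathlib
import Cfsg.Agent.EqLemmas

/-!
An explicit Sylow 2-subgroup of the alternating group of degree 8: it is transitive, self-normalising,
has centre of order 2, and is generated by conjugates of its central involution.
-/

set_option autoImplicit false

namespace Cfsg.Agent.AltEightSylow

open Equiv

/-- A permutation of eight points given by two inverse tables. -/
def mkPerm (f g : Fin 8 → Fin 8) (h1 : ∀ x, g (f x) = x) (h2 : ∀ x, f (g x) = x) : Perm (Fin 8) :=
  ⟨f, g, h1, h2⟩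

/-- The central involution. -/
def zc : Perm (Fin 8) := mkPerm ![1,0,3,2,5,4,7,6] ![1,0,3,2,5,4,7,6] (by decide) (by decide)

/-- Six involutions generating the subgroup in normal form. -/
def gen : Fin 6 → Perm (Fin 8) :=
  ![mkPerm ![1,0,3,2,5,4,7,6] ![1,0,3,2,5,4,7,6] (by decide) (by decide),
    mkPerm ![1,0,3,2,6,7,4,5] ![1,0,3,2,6,7,4,5] (by decide) (by decide),
    mkPerm ![5,4,7,6,1,0,3,2] ![5,4,7,6,1,0,3,2] (by decide) (by decide),
    mkPerm ![3,2,1,0,7,6,5,4] ![3,2,1,0,7,6,5,4] (by decide) (by decide),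
    mkPerm ![2,3,0,1,7,6,5,4] ![2,3,0,1,7,6,5,4] (by decide) (by decide),
    mkPerm ![7,6,4,5,2,3,1,0] ![7,6,4,5,2,3,1,0] (by decide) (by decide)]

/-- Even permutations conjugating `zc` to the generators. -/
def cnj : Fin 6 → Perm (Fin 8) :=
  ![mkPerm ![0,1,2,3,4,5,6,7] ![0,1,2,3,4,5,6,7] (by decide) (by decide),
    mkPerm ![0,1,2,3,4,6,7,5] ![0,1,2,3,4,7,5,6] (by decide) (by decide),
    mkPerm ![0,5,1,4,2,7,3,6] ![0,2,4,6,3,1,7,5] (by decide) (by decide),
    mkPerm ![0,3,1,2,4,7,5,6] ![0,2,3,1,4,6,7,5] (by decide) (by decide),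
    mkPerm ![0,2,1,3,4,7,6,5] ![0,2,1,3,4,7,6,5] (by decide) (by decide),
    mkPerm ![0,7,1,6,2,4,5,3] ![0,2,4,7,5,6,3,1] (by decide) (by decide)]

/-- The normal-form products. -/
def word (n : Fin 64) : Perm (Fin 8) :=
  ((List.finRange 6).map fun i => if n.val.testBit i.val then gen i else 1).prod

theorem word_closed : ∀ i : Fin 6, ∀ n : Fin 64, ∃ m : Fin 64, ∀ x, gen i (word n x) = word m x := by
  decide +kernel

theorem word_inj : ∀ n m : Fin 64, (∀ x, word n x = word m x) → n = m := by decide +kernel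

theorem word_zero : word 0 = 1 := by decide +kernel

theorem gen_sq : ∀ i, ∀ x, gen i (gen i x) = x := by decide +kernel

theorem sign_gen : ∀ i, Perm.sign (gen i) = 1 := by decide +kernel

theorem sign_cnj : ∀ i, Perm.sign (cnj i) = 1 := by decide +kernel

theorem cnj_spec : ∀ i, ∀ x, cnj i (zc x) = gen i (cnj i x) := by decide +kernel

/-- The Sylow 2-subgroup. -/
def P0 : Subgroup (Perm (Fin 8)) := Subgroup.closure (Set.range gen)

theorem gen_mem (i : Fin 6) : gen i ∈ P0 := Subgroup.subset_closure ⟨i, rfl⟩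

theorem word_mem (n : Fin 64) : word n ∈ P0 := by
  refine list_prod_mem fun g hg => ?_
  obtain ⟨i, -, rfl⟩ := List.mem_map.1 hg
  split_ifs
  exacts [gen_mem i, one_mem _]

theorem mem_P0 {g : Perm (Fin 8)} (hg : g ∈ P0) : ∃ n, g = word n := by
  induction hg using Subgroup.closure_induction_left with
  | one => exact ⟨0, word_zero.symm⟩
  | mul_left x hx y _ ih =>
    obtain ⟨i, rfl⟩ := hx
    obtain ⟨n, rfl⟩ := ih
    obtain ⟨m, hm⟩ := word_closed i n
    exact ⟨m, Equiv.ext hm⟩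
  | inv_mul_cancel x hx y _ ih =>
    obtain ⟨i, rfl⟩ := hx
    obtain ⟨n, rfl⟩ := ih
    obtain ⟨m, hm⟩ := word_closed i n
    exact ⟨m, by rw [inv_eq_of_mul_eq_one_right (Equiv.ext (gen_sq i))]; exact Equiv.ext hm⟩

theorem natCard_P0 : Nat.card P0 = 64 := by
  have hb : Function.Bijective (fun n => (⟨word n, word_mem n⟩ : P0)) :=
    ⟨fun n m h => word_inj n m fun x => by rw [show word n = word m from congrArg Subtype.val h],
      fun ⟨g, hg⟩ => by obtain ⟨n, rfl⟩ := mem_P0 hg; exact ⟨n, rfl⟩⟩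
  rw [← Nat.card_congr (Equiv.ofBijective _ hb), Nat.card_eq_fintype_card, Fintype.card_fin]

theorem P0_le : P0 ≤ alternatingGroup (Fin 8) :=
  (Subgroup.closure_le _).2 (Set.range_subset_iff.2 fun i => Perm.mem_alternatingGroup.2 (sign_gen i))

theorem zc_mem : zc ∈ P0 := gen_mem 0

theorem transitive (a b : Fin 8) : ∃ g ∈ P0, g a = b := by
  have h : ∀ a b : Fin 8, ∃ n, word n a = b := by decide +kernel
  obtain ⟨n, hn⟩ := h a b
  exact ⟨word n, word_mem n, hn⟩

theorem cnj_mem (i : Fin 6) : cnj i ∈ alternatingGroup (Fin 8) :=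
  Perm.mem_alternatingGroup.2 (sign_cnj i)

theorem cnj_conj (i : Fin 6) : cnj i * zc * (cnj i)⁻¹ = gen i :=
  mul_inv_eq_iff_eq_mul.2 (Equiv.ext (cnj_spec i))

/-- Every nontrivial normal subgroup contains the central involution. -/
theorem zc_mem_of_invariant (N : Subgroup (Perm (Fin 8))) (hN : N ≤ P0)
    (hconj : ∀ g ∈ P0, ∀ x ∈ N, g * x * g⁻¹ ∈ N) (hne : N ≠ ⊥) : zc ∈ N := by
  -- taking commutators with the generators always descends to `zc`
  have hstep : ∀ n : Fin 64, n = 0 ∨ (∀ x, word n x = zc x) ∨ ∃ i : Fin 6, ∃ m : Fin 64,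
      (∀ x, gen i (word n x) = word m (word n (gen i x))) ∧
      m ≠ 0 ∧ ((∀ x, word m x = zc x) ∨ ∃ j : Fin 6, ∃ k : Fin 64,
        (∀ x, gen j (word m x) = word k (word m (gen j x))) ∧ k ≠ 0 ∧
        ((∀ x, word k x = zc x) ∨ ∃ l : Fin 6, ∃ r : Fin 64,
          (∀ x, gen l (word k x) = word r (word k (gen l x))) ∧ ∀ x, word r x = zc x)) := by
    decide +kernel
  have hcomm : ∀ i (n m : Fin 64), word n ∈ N →
      (∀ x, gen i (word n x) = word m (word n (gen i x))) → word m ∈ N := by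
    intro i n m hn h
    have h' : word m = gen i * word n * (gen i)⁻¹ * (word n)⁻¹ := by
      rw [eq_mul_inv_iff_mul_eq, eq_mul_inv_iff_mul_eq, mul_assoc]
      exact (Equiv.ext h).symm
    rw [h']
    exact mul_mem (hconj _ (gen_mem i) _ hn) (inv_mem hn)
  obtain ⟨g, hg, hg1⟩ := (N.bot_or_exists_ne_one).resolve_left hne
  obtain ⟨n, rfl⟩ := mem_P0 (hN hg)
  rcases hstep n with rfl | h | ⟨i, m, h1, -, h | ⟨j, k, h2, -, h | ⟨l, r, h3, h⟩⟩⟩
  · exact absurd word_zero hg1
  · rwa [← show word n = zc from Equiv.ext h]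
  · rw [← show word m = zc from Equiv.ext h]; exact hcomm i n m hg h1
  · rw [← show word k = zc from Equiv.ext h]
    exact hcomm j m k (hcomm i n m hg h1) h2
  · rw [← show word r = zc from Equiv.ext h]
    exact hcomm l k r (hcomm j m k (hcomm i n m hg h1) h2) h3

/-- The subgroup is its own normaliser in the alternating group. -/
theorem mem_of_normalizes {g : Perm (Fin 8)} (hg : g ∈ alternatingGroup (Fin 8))
    (hn : ∀ x, x ∈ P0 ↔ g * x * g⁻¹ ∈ P0) : g ∈ P0 := by
  -- a point `a` fixed by `g` has the same stabiliser before and after conjugation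
  have hfix : ∀ (h : Perm (Fin 8)), (∀ x, x ∈ P0 ↔ h * x * h⁻¹ ∈ P0) → ∀ A : Finset (Fin 8),
      (∀ a ∈ A, h a = a) → ∀ y y', (∀ s, (∀ a ∈ A, word s a = a) → word s y = y ∨ word s y = y') →
      ∀ s, (∀ a ∈ A, word s a = a) → word s (h y) = h y ∨ word s (h y) = h y' := by
    intro h hh A hA y y' hy s hs
    obtain ⟨t, ht⟩ := mem_P0 ((hh (h⁻¹ * word s * h)).2 (by simpa [mul_assoc] using word_mem s))
    have hta : ∀ a ∈ A, word t a = a := fun a ha => by
      rw [← ht, Perm.mul_apply, Perm.mul_apply, hA a ha, hs a ha, Perm.inv_eq_iff_eq, hA a ha]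
    rcases hy t hta with e | e <;> [left; right] <;>
    · rw [← ht, Perm.mul_apply, Perm.mul_apply, Perm.inv_eq_iff_eq] at e
      exact e
  have hmul : ∀ s : Fin 64, ∀ h : Perm (Fin 8), (∀ x, x ∈ P0 ↔ h * x * h⁻¹ ∈ P0) →
      ∀ x, x ∈ P0 ↔ word s * h * x * (word s * h)⁻¹ ∈ P0 := by
    intro s h hh x
    rw [mul_inv_rev, hh x, show word s * h * x * (h⁻¹ * (word s)⁻¹) =
      word s * (h * x * h⁻¹) * (word s)⁻¹ by group]
    exact ⟨fun hx => mul_mem (mul_mem (word_mem s) hx) (inv_mem (word_mem s)), fun hx => by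
      simpa [mul_assoc] using mul_mem (mul_mem (inv_mem (word_mem s)) hx) (word_mem s)⟩
  -- move `0`, `2`, `4` back in turn
  have d0 : ∀ b : Fin 8, ∃ s : Fin 64, word s b = 0 := by decide +kernel
  have d1a : ∀ s : Fin 64, word s 0 = 0 → word s 1 = 1 := by decide +kernel
  have d1b : ∀ b : Fin 8, (∀ s : Fin 64, word s 0 = 0 → word s b = b) → b = 0 ∨ b = 1 := by
    decide +kernel
  have d2a : ∀ s : Fin 64, word s 0 = 0 → word s 2 = 2 ∨ word s 2 = 3 := by decide +kernel
  have d2b : ∀ b c : Fin 8, (∀ s : Fin 64, word s 0 = 0 → word s b = b ∨ word s b = c) →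
      b = 0 ∨ b = 1 ∨ ∃ s : Fin 64, word s 0 = 0 ∧ word s 1 = 1 ∧ word s b = 2 := by
    decide +kernel
  have d3a : ∀ s : Fin 64, word s 2 = 2 → word s 3 = 3 := by decide +kernel
  have d3b : ∀ b : Fin 8, (∀ s : Fin 64, word s 2 = 2 → word s b = b) → b = 2 ∨ b = 3 := by
    decide +kernel
  have d4 : ∀ b : Fin 8, b = 0 ∨ b = 1 ∨ b = 2 ∨ b = 3 ∨
      ∃ s : Fin 64, word s 0 = 0 ∧ word s 1 = 1 ∧ word s 2 = 2 ∧ word s 3 = 3 ∧ word s b = 4 := by
    decide +kernel
  have d5a : ∀ s : Fin 64, word s 4 = 4 → word s 5 = 5 := by decide +kernel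
  have d5b : ∀ b : Fin 8, (∀ s : Fin 64, word s 4 = 4 → word s b = b) → b = 4 ∨ b = 5 := by
    decide +kernel
  obtain ⟨s0, hs0⟩ := d0 (g 0)
  suffices word s0 * g ∈ P0 by simpa using mul_mem (inv_mem (word_mem s0)) this
  have hn1 := hmul s0 g hn
  have he1 : word s0 * g ∈ alternatingGroup (Fin 8) := mul_mem (P0_le (word_mem s0)) hg
  set g1 := word s0 * g with hg1
  have h0 : g1 0 = 0 := hs0
  have h1 : g1 1 = 1 := by
    rcases d1b (g1 1) (fun s hs => (hfix g1 hn1 {0} (by simp [h0]) 1 1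
      (fun t ht => Or.inl (d1a t (ht 0 (by simp)))) s (by simp [hs])).elim id id) with h | h
    · exact absurd (g1.injective (h.trans h0.symm)) (by decide)
    · exact h
  obtain ⟨s2, hs20, hs21, hs22⟩ : ∃ s : Fin 64, word s 0 = 0 ∧ word s 1 = 1 ∧ word s (g1 2) = 2 := by
    rcases d2b (g1 2) (g1 3) (fun s hs => hfix g1 hn1 {0} (by simp [h0]) 2 3
      (fun t ht => d2a t (ht 0 (by simp))) s (by simp [hs])) with h | h | h
    · exact absurd (g1.injective (h.trans h0.symm)) (by decide)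
    · exact absurd (g1.injective (h.trans h1.symm)) (by decide)
    · exact h
  suffices word s2 * g1 ∈ P0 by simpa using mul_mem (inv_mem (word_mem s2)) this
  have hn2 := hmul s2 g1 hn1
  have he2 : word s2 * g1 ∈ alternatingGroup (Fin 8) := mul_mem (P0_le (word_mem s2)) he1
  set g2 := word s2 * g1 with hg2
  have k0 : g2 0 = 0 := by rw [hg2, Perm.mul_apply, h0, hs20]
  have k1 : g2 1 = 1 := by rw [hg2, Perm.mul_apply, h1, hs21]
  have k2 : g2 2 = 2 := hs22
  have k3 : g2 3 = 3 := by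
    rcases d3b (g2 3) (fun s hs => (hfix g2 hn2 {2} (by simp [k2]) 3 3
      (fun t ht => Or.inl (d3a t (ht 2 (by simp)))) s (by simp [hs])).elim id id) with h | h
    · exact absurd (g2.injective (h.trans k2.symm)) (by decide)
    · exact h
  obtain ⟨s4, u0, u1, u2, u3, u4⟩ : ∃ s : Fin 64,
      word s 0 = 0 ∧ word s 1 = 1 ∧ word s 2 = 2 ∧ word s 3 = 3 ∧ word s (g2 4) = 4 := by
    rcases d4 (g2 4) with h | h | h | h | h
    · exact absurd (g2.injective (h.trans k0.symm)) (by decide)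
    · exact absurd (g2.injective (h.trans k1.symm)) (by decide)
    · exact absurd (g2.injective (h.trans k2.symm)) (by decide)
    · exact absurd (g2.injective (h.trans k3.symm)) (by decide)
    · exact h
  suffices word s4 * g2 ∈ P0 by simpa using mul_mem (inv_mem (word_mem s4)) this
  have hn3 := hmul s4 g2 hn2
  have he3 : word s4 * g2 ∈ alternatingGroup (Fin 8) := mul_mem (P0_le (word_mem s4)) he2
  set g3 := word s4 * g2 with hg3
  have l0 : g3 0 = 0 := by rw [hg3, Perm.mul_apply, k0, u0]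
  have l1 : g3 1 = 1 := by rw [hg3, Perm.mul_apply, k1, u1]
  have l2 : g3 2 = 2 := by rw [hg3, Perm.mul_apply, k2, u2]
  have l3 : g3 3 = 3 := by rw [hg3, Perm.mul_apply, k3, u3]
  have l4 : g3 4 = 4 := u4
  have l5 : g3 5 = 5 := by
    rcases d5b (g3 5) (fun s hs => (hfix g3 hn3 {4} (by simp [l4]) 5 5
      (fun t ht => Or.inl (d5a t (ht 4 (by simp)))) s (by simp [hs])).elim id id) with h | h
    · exact absurd (g3.injective (h.trans l4.symm)) (by decide)
    · exact h
  have hsupp : g3.support ⊆ {6, 7} := by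
    intro x hx
    rw [Perm.mem_support] at hx
    have h8 : ∀ y : Fin 8, y = 0 ∨ y = 1 ∨ y = 2 ∨ y = 3 ∨ y = 4 ∨ y = 5 ∨ y = 6 ∨ y = 7 := by decide
    rcases h8 x with rfl | rfl | rfl | rfl | rfl | rfl | rfl | rfl <;>
      first | exact absurd l0 hx | exact absurd l1 hx | exact absurd l2 hx | exact absurd l3 hx |
        exact absurd l4 hx | exact absurd l5 hx | simp
  suffices g3 = 1 by rw [this]; exact one_mem _
  by_contra hne
  have htwo := Perm.two_le_card_support_of_ne_one hne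
  have hle : g3.support.card ≤ 2 := (Finset.card_le_card hsupp).trans (by decide)
  have hswap : g3.IsSwap := Perm.card_support_eq_two.1 (by omega)
  rw [Perm.mem_alternatingGroup, hswap.sign_eq] at he3
  exact absurd he3 (by decide)

end Cfsg.Agent.AltEightSylow
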